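import Cfsg.Agent.H0.TC
set_option maxRecDepth 100000
namespace H0.TCL370
open H0
noncomputable def r0 : TC.WTr := (.node (.node (.node (.node (.node (.node (.leaf [0] 0 0 false) (.leaf [10] 10 1 false)) (.leaf [4] 4 1 false)) (.node (.leaf [1] 1 1 false) (.leaf [8, 8, 8, 8, 8] 16 0 true))) (.node (.node (.leaf [4, 4, 11, 8, 0, 11, 8, 5] 57 8 true) (.leaf [7, 7, 7, 7, 7] 16 0 false)) (.node (.leaf [3, 5, 8, 5, 5, 3, 4, 3, 4] 28 6 false) (.leaf [4, 10, 10, 4, 4] 34 2 false)))) (.node (.node (.node (.leaf [2, 3, 1, 0, 2, 2] 41 4 false) (.leaf [9, 5, 11, 1, 8, 3, 7, 2] 59 0 true)) (.node (.leaf [1, 0, 2, 2, 0, 2] 41 6 false) (.leaf [0, 3, 7, 3, 9, 8, 3, 0, 3] 50 8 true))) (.node (.node (.leaf [3, 7, 3, 5, 11, 1, 9] 45 7 true) (.leaf [7] 7 1 false)) (.node (.leaf [0, 2, 8, 8, 8, 3, 5, 1, 3] 61 2 false) (.leaf [11] 10 0 false))))) (.node (.node (.node (.node (.leaf [6,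 2, 5, 8, 3, 6, 9, 8] 46 6 true) (.leaf [0, 1, 11, 11, 11, 9, 2, 0] 58 2 false)) (.node (.leaf [8, 3, 0, 3, 8, 3, 0] 48 0 true) (.leaf [3, 8, 3, 0, 9, 3, 0, 3, 7] 50 6 false))) (.node (.node (.leaf [6, 0, 7, 9, 6, 3, 7, 4] 46 0 false) (.leaf [4, 3, 5, 5, 3, 5, 3, 4, 4] 28 0 true)) (.node (.leaf [11, 0, 10, 5, 7, 0, 8] 51 2 false) (.leaf [10, 3, 2, 6, 11, 11, 8, 1] 55 5 true)))) (.node (.node (.node (.leaf [3, 0, 3, 11, 6, 8, 0, 11] 56 2 false) (.leaf [6] 6 0 false)) (.node (.leaf [5] 4 0 false) (.leaf [6, 1, 8, 3, 7, 2, 10, 4] 59 7 false))) (.node (.node (.leaf [1] 1 1 false) (.leaf [6, 11, 7, 9, 8, 11] 24 4 false)) (.node (.leaf [3, 4, 3, 6, 3] 27 1 false) (.leaf [11, 11, 9, 2, 0, 6, 0, 1] 58 5 false))))))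
noncomputable def r1 : TC.WTr := (.node (.node (.node (.node (.node (.node (.leaf [4, 2, 0, 3, 0, 1, 5] 54 3 false) (.leaf [10] 10 1 false)) (.leaf [6] 6 0 false)) (.node (.leaf [7, 0, 11, 6, 4, 4, 0, 8] 49 2 false) (.leaf [7] 7 1 false))) (.node (.node (.leaf [9, 7, 9, 7, 5, 0, 11, 7] 52 3 false) (.leaf [4, 8, 11, 4, 7, 10, 7] 36 7 false)) (.node (.leaf [4, 11, 8, 0, 11, 8, 5, 1] 57 0 true) (.leaf [6, 7, 10, 7, 9, 8] 24 0 true)))) (.node (.node (.node (.leaf [7, 10, 5, 5, 2, 4, 7, 10] 57 4 false) (.leaf [11, 9, 6, 7, 10, 8, 9] 25 5 false)) (.node (.leaf [6, 3, 5, 3, 4] 27 4 false) (.leaf [2, 0, 6, 0, 1, 11, 11, 11] 58 8 false))) (.node (.node (.leaf [0, 11, 4, 2, 0, 11, 4] 53 2 true) (.leaf [11, 9, 8, 10, 6, 11] 23 4 false)) (.node (.leaf [0, 4, 2, 0, 3, 0, 1] 54 2 false) (.leaf [8, 11, 9, 8, 10, 6] 23 3 false))))) (.node (.node (.node (.node (.leaf [1, 5, 0, 4,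 2, 0, 3] 54 0 false) (.leaf [9, 7, 6, 7, 6, 7] 17 6 true)) (.node (.leaf [5, 11, 1, 9, 2, 3, 7] 45 2 true) (.leaf [10, 9, 11] 14 0 false))) (.node (.node (.leaf [1] 1 1 false) (.leaf [6, 8, 11, 6, 7] 18 2 false)) (.node (.leaf [5] 4 0 false) (.leaf [6, 11, 8, 11, 9, 8] 23 1 false)))) (.node (.node (.node (.leaf [10, 2, 11, 1, 3, 4, 4, 4, 9] 60 5 true) (.leaf [1, 9, 7, 9, 7, 5, 0, 11] 52 2 false)) (.node (.leaf [4, 10, 4, 10, 10] 34 0 false) (.leaf [11] 10 0 false))) (.node (.node (.leaf [1] 1 1 false) (.leaf [3, 7, 2, 6, 9, 5, 11, 1] 59 5 true)) (.node (.leaf [4] 4 1 false) (.leaf [6, 7, 7, 6, 8] 18 5 false))))))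
noncomputable def r2 : TC.WTr := (.node (.node (.node (.node (.node (.node (.leaf [11, 4, 2, 0, 11, 4, 2] 53 3 true) (.leaf [10] 10 1 false)) (.leaf [4] 4 1 false)) (.node (.leaf [3] 3 0 false) (.leaf [7] 7 1 false))) (.node (.node (.leaf [1, 4, 2, 0, 2, 0, 2, 2, 0] 42 8 true) (.leaf [7, 6, 8, 11, 6] 18 1 false)) (.node (.leaf [3, 4, 8, 3, 7, 11, 11] 38 0 false) (.leaf [4, 3, 8, 3, 1, 9, 2] 45 3 false)))) (.node (.node (.node (.leaf [1, 5, 10, 0, 1, 5, 10] 53 0 false) (.leaf [5, 10, 9, 8, 9, 6, 4] 35 1 false)) (.node (.leaf [10, 9, 3, 10] 32 2 false) (.leaf [6, 8, 9, 7, 6] 22 4 false))) (.node (.node (.leaf [0, 6, 0, 1, 11, 11, 11, 9] 58 0 false) (.leaf [6, 10, 7, 6, 8] 18 4 true)) (.node (.leaf [10, 7, 5, 8, 8, 11, 8] 36 4 true) (.leaf [10] 10 1 false))))) (.node (.node (.node (.node (.leaf [5, 2, 3, 6, 9, 8, 4] 44 0 false) (.leaf [11, 5, 6, 4, 7] 33 1 true)) (.node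 (.leaf [5, 3, 4, 3, 6] 27 0 false) (.leaf [3, 9, 3] 31 1 false))) (.node (.node (.leaf [10, 10, 3, 2, 6, 11, 11, 8] 55 4 true) (.leaf [5, 0, 11, 7, 1, 9, 7, 9] 52 7 false)) (.node (.leaf [5] 4 0 false) (.leaf [9, 3, 10, 3] 32 3 false)))) (.node (.node (.node (.leaf [9, 2, 3, 7, 3, 5, 11] 45 5 true) (.leaf [8] 7 0 false)) (.node (.leaf [6, 5, 6, 9, 7, 9, 11] 35 5 true) (.leaf [9] 9 0 false))) (.node (.node (.leaf [1] 1 1 false) (.leaf [3, 1, 9, 2, 10, 4, 3] 45 6 false)) (.node (.leaf [4] 4 1 false) (.leaf [2, 9, 5, 5, 5, 3, 2, 10, 1] 60 3 false))))))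
noncomputable def r3 : TC.WTr := (.node (.node (.node (.node (.node (.node (.leaf [1, 11, 11, 11, 9, 2, 0, 6] 58 3 false) (.leaf [10] 10 1 false)) (.leaf [4, 4, 0, 8, 3, 7, 0, 11] 49 6 false)) (.node (.leaf [7, 2, 10, 4, 9, 6, 1, 8] 59 2 false) (.leaf [9] 9 0 false))) (.node (.node (.leaf [10, 1, 8, 1, 3, 8, 4, 10, 4] 66 0 false) (.leaf [5, 3, 5, 10, 10, 8, 3] 38 4 true)) (.node (.leaf [4, 4, 9, 1, 10, 2, 11, 1, 3] 60 1 true) (.leaf [6, 2, 3, 1, 3, 5, 8, 11, 3] 47 5 true)))) (.node (.node (.node (.leaf [2] 1 0 false) (.leaf [10, 7, 6, 8, 8] 18 5 true)) (.node (.leaf [3] 3 0 false) (.leaf [1, 10, 2, 11, 1, 3, 4, 4, 4] 60 4 true))) (.node (.node (.leaf [0, 6, 0, 1, 9, 10, 10, 10] 58 4 true) (.leaf [5, 8, 6, 7, 6, 4, 10] 37 2 false)) (.node (.leaf [11, 5, 7, 3, 2, 7, 2, 11, 2] 66 0 true) (.leaf [9, 10, 9] 14 3 false))))) (.node (.node (.node (.node (.leaf [2, 3, 1,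 0, 1, 1] 41 5 true) (.leaf [10, 0, 8, 3, 7, 0, 5, 5] 49 2 true)) (.node (.leaf [0, 3, 11, 6, 8, 0, 11, 1] 56 3 false) (.leaf [8, 4, 0, 5, 2, 3, 6] 44 5 false))) (.node (.node (.leaf [0, 9, 2, 0, 7, 6, 7, 10, 6] 62 0 false) (.leaf [9, 10, 7, 10, 6, 11] 23 6 true)) (.node (.leaf [4] 4 1 false) (.leaf [11] 10 0 false)))) (.node (.node (.node (.leaf [6, 1, 5, 3, 5, 6, 8, 2, 11] 63 7 true) (.leaf [10, 0, 7, 10, 5, 5, 2, 4] 57 2 false)) (.node (.leaf [7, 11, 5, 6, 8, 6, 7] 37 4 true) (.leaf [3, 2, 6, 11, 11, 8, 1, 10] 55 6 true))) (.node (.node (.leaf [1] 1 1 false) (.leaf [3, 7, 11, 11, 4, 3, 4] 38 3 false)) (.node (.leaf [4] 4 1 false) (.leaf [10] 10 1 false))))))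
noncomputable def r4 : TC.WTr := (.node (.node (.node (.node (.node (.node (.leaf [3, 2, 10, 0, 7, 6, 10, 3] 56 4 true) (.leaf [10] 10 1 false)) (.leaf [4] 4 1 false)) (.node (.leaf [1] 1 1 false) (.leaf [7] 7 1 false))) (.node (.node (.leaf [5, 10, 0, 1, 5, 10, 0] 53 1 false) (.leaf [9, 8, 11, 8, 6, 11] 24 0 false)) (.node (.leaf [8, 9, 8, 9, 2, 8, 10, 0] 52 0 true) (.leaf [7, 9, 8, 10, 6, 7] 24 3 true)))) (.node (.node (.node (.leaf [8, 4, 11, 0, 10, 5, 7] 51 0 false) (.leaf [7, 3, 5, 10, 7, 9, 7, 3] 39 1 false)) (.node (.leaf [5, 10, 7, 9, 7, 3, 6, 7] 39 3 false) (.leaf [3, 10, 3, 10] 32 4 false))) (.node (.node (.leaf [2, 2, 2] 40 0 true) (.leaf [9, 6, 11, 9, 6, 7, 10] 25 3 false)) (.node (.leaf [6, 4, 7, 6, 11] 33 3 true) (.leaf [11] 10 0 false))))) (.node (.node (.node (.node (.leaf [11, 1, 3, 0, 3, 11, 6, 8] 56 0 false) (.leaf [8, 11, 6, 7, 7] 18 3 false))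 (.node (.leaf [9, 3, 9] 31 0 false) (.leaf [7, 6, 9, 6, 8] 22 1 false))) (.node (.node (.leaf [0, 4, 3, 2, 4, 3, 7, 7, 7] 61 5 true) (.leaf [3, 5, 11, 1, 1, 8, 10, 2, 10] 64 1 true)) (.node (.leaf [0, 5, 2, 3, 6, 9, 8] 44 7 false) (.leaf [4, 9, 6, 1, 8, 3, 7, 2] 59 5 false)))) (.node (.node (.node (.leaf [1, 1, 1] 40 0 false) (.leaf [6] 6 0 false)) (.node (.leaf [0, 5, 7, 9, 6, 3, 1] 44 6 true) (.leaf [9] 9 0 false))) (.node (.node (.leaf [1] 1 1 false) (.leaf [9, 7, 6, 9, 6] 22 0 false)) (.node (.leaf [6, 4, 10, 6, 8] 33 0 false) (.leaf [11, 11, 11, 11, 11] 12 0 true))))))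
noncomputable def r5 : TC.WTr := (.node (.node (.node (.node (.node (.node (.leaf [3, 7, 3, 0, 3, 7, 3] 48 0 false) (.leaf [10] 10 1 false)) (.leaf [0, 7, 9, 6, 3, 7, 4, 1] 46 1 false)) (.node (.leaf [11, 3, 9, 11] 32 2 true) (.leaf [7] 7 1 false))) (.node (.node (.leaf [9, 2, 10, 4, 3, 8, 3] 45 0 false) (.leaf [9, 7, 5, 0, 11, 7, 1, 9] 52 5 false)) (.node (.leaf [7, 10, 0, 7, 10, 5, 5, 2] 57 1 false) (.leaf [4, 4, 10, 4, 10] 34 5 false)))) (.node (.node (.node (.leaf [11, 8, 5, 1, 4, 4, 11, 8] 57 4 true) (.leaf [11, 8, 11, 9, 8, 10] 23 2 false)) (.node (.leaf [3] 3 0 false) (.leaf [11, 3, 11, 3] 32 0 true))) (.node (.node (.leaf [9, 5, 5, 5, 3, 2, 10, 1, 11] 60 4 false) (.leaf [10, 6, 11, 8, 11, 9] 23 0 false)) (.node (.leaf [10, 0, 1, 5, 10, 0, 1] 53 2 false) (.leaf [3, 9, 11, 3] 32 3 true))))) (.node (.node (.node (.node (.leaf [9, 2, 0, 7, 6, 7, 10, 6, 2] 62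 1 false) (.leaf [3, 5, 3, 4, 3] 27 5 false)) (.node (.leaf [11, 11, 2, 7, 10, 10, 6, 1] 55 1 false) (.leaf [2, 0, 7, 6, 7, 10, 6, 2, 0] 62 2 false))) (.node (.node (.leaf [11, 2, 5, 11, 5, 7, 3, 2, 7] 66 7 true) (.leaf [6, 8, 8, 6, 10] 18 1 true)) (.node (.leaf [5] 4 0 false) (.leaf [11] 10 0 false)))) (.node (.node (.node (.leaf [11, 2, 9, 5, 5, 5, 3, 2, 10] 60 2 false) (.leaf [2, 2, 10, 4, 3, 8, 11, 1, 11] 64 2 false)) (.node (.leaf [10, 10, 4, 4, 10] 34 3 false) (.leaf [5, 5, 2, 4, 7, 10, 0, 7] 57 6 false))) (.node (.node (.leaf [1] 1 1 false) (.leaf [11, 4, 7, 10, 7, 7, 4] 36 1 false)) (.node (.leaf [4] 4 1 false) (.leaf [10] 10 1 false))))))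
noncomputable def r6 : TC.WTr := (.node (.node (.node (.node (.node (.node (.leaf [3, 11, 6, 8, 0, 11, 1, 3] 56 4 false) (.leaf [10] 10 1 false)) (.leaf [4] 4 1 false)) (.node (.leaf [1, 6, 11, 3, 10, 7, 4, 3, 2] 47 1 false) (.leaf [7] 7 1 false))) (.node (.node (.leaf [0, 1, 1, 0, 2, 3] 41 1 true) (.leaf [4, 3, 2, 3, 1, 6, 11, 3, 10] 47 7 false)) (.node (.leaf [8, 3, 7, 11, 11, 4, 3] 38 2 false) (.leaf [0, 1, 5, 10, 0, 1, 5] 53 3 false)))) (.node (.node (.node (.leaf [4, 8, 9, 8, 9, 2, 8, 10] 52 8 true) (.leaf [2, 10, 1, 7, 6, 4, 3, 4, 2] 63 1 false)) (.node (.leaf [7, 11, 11, 4, 3, 4, 8] 38 4 false) (.leaf [10, 7, 10, 6, 11, 7] 23 0 true))) (.node (.node (.leaf [3, 1, 0, 2, 2, 0] 41 5 false) (.leaf [11, 8, 5, 10, 7, 5, 8] 36 1 true)) (.node (.leaf [10, 9, 8, 9, 6, 4, 6] 35 2 false) (.leaf [4, 3, 4, 8, 3, 7, 11] 38 7 false))))) (.node (.node (.node (.node (.leaf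 [3, 7, 9, 3, 8, 3, 0, 9, 3] 50 3 false) (.leaf [7, 7, 6, 8, 11] 18 0 false)) (.node (.leaf [4, 3, 6, 3, 5] 27 2 false) (.leaf [11, 9, 10] 14 2 false))) (.node (.node (.leaf [7, 6, 4, 3, 4, 2, 6, 2, 10] 63 4 false) (.leaf [11, 11, 4, 3, 4, 8, 3] 38 5 false)) (.node (.leaf [5] 4 0 false) (.leaf [0, 7, 6, 10, 3, 0, 3, 2] 56 7 true)))) (.node (.node (.node (.leaf [7, 0, 7, 11, 3, 5, 8, 2, 6] 65 7 true) (.leaf [3, 0, 3, 7, 3, 0, 3] 48 2 false)) (.node (.leaf [10, 6, 8, 5, 6] 33 2 false) (.leaf [9] 9 0 false))) (.node (.node (.leaf [1] 1 1 false) (.leaf [11, 8, 6, 11, 7, 9] 24 2 false)) (.node (.leaf [4] 4 1 false) (.leaf [0, 10, 5, 7, 0, 8, 4] 51 3 false))))))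
noncomputable def r7 : TC.WTr := (.node (.node (.node (.node (.node (.node (.leaf [11, 6, 4, 4, 0, 8, 3, 7] 49 4 false) (.leaf [10] 10 1 false)) (.leaf [8, 5, 6, 4, 10] 33 4 false)) (.node (.leaf [9, 11, 3, 11] 32 4 true) (.leaf [2, 10, 4, 3, 8, 3, 1] 45 1 false))) (.node (.node (.leaf [0, 2, 2, 0, 2, 3] 41 0 false) (.leaf [6, 4, 3, 4, 2, 6, 2, 10, 1] 63 5 false)) (.node (.leaf [4, 4, 4, 4, 4] 26 0 false) (.leaf [9, 11, 9] 14 1 false)))) (.node (.node (.node (.leaf [0, 2, 3, 1, 0, 1] 41 4 true) (.leaf [6] 6 0 false)) (.node (.leaf [3] 3 0 false) (.leaf [6, 3, 1, 4, 0, 5, 7] 44 2 true))) (.node (.node (.leaf [11, 1, 6, 1, 5, 3, 5, 6, 8] 63 5 true) (.leaf [3, 7, 5, 3, 5, 10, 10] 38 2 true)) (.node (.leaf [11, 1, 8, 3, 7, 2, 6, 9] 59 2 true) (.leaf [6, 8, 0, 11, 1, 3, 0, 3] 56 6 false))))) (.node (.node (.node (.node (.leaf [10, 5, 7, 0, 8, 4, 11] 51 4 false) (.leaf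 [9, 10, 6, 9, 7, 11, 8] 25 7 true)) (.node (.leaf [8, 3, 1, 9, 2, 10, 4] 45 5 false) (.leaf [8, 11, 8, 6, 11, 7] 24 1 false))) (.node (.node (.leaf [4, 3, 7, 7, 7, 1, 0, 4, 3] 61 9 true) (.leaf [6, 11, 5, 6, 4] 33 0 true)) (.node (.leaf [7, 0, 8, 4, 11, 0, 10] 51 6 false) (.leaf [11] 10 0 false)))) (.node (.node (.node (.leaf [8, 1, 3, 8, 4, 10, 4, 1, 10] 66 2 false) (.leaf [5, 8, 8, 11, 8, 5, 10] 36 6 true)) (.node (.leaf [3, 8, 3, 1, 9, 2, 10] 45 4 false) (.leaf [6, 8, 5, 6, 4] 33 3 false))) (.node (.node (.leaf [1] 1 1 false) (.leaf [1, 10, 10, 3, 2, 6, 11, 11] 55 3 true)) (.node (.leaf [4] 4 1 false) (.leaf [10] 10 1 false))))))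
noncomputable def tS : Tr := (.leaf (nat_lit 0xfffadc433ae6a029bc97b08b8d5801947ae6ae6fff4337e268ea2f0875c7bc678241aac7a8eaaefff9c7086b219bca3d601a99b5383cb2191cb21fff08574582b6629be89697198e77788a7df9b5fff972a028db98208110f9c8943a199578d5a00fff6d008036637b3b245354589b4358607b4519fff08066537b82b6c5b87487c04428a60860aa4fff473472afd0809103dcb91971713a54654b10fff5a37e9820a508cdaa75c15fa07eb06af87eafff8a01eb07d90aa8b8858de91781e4bfa849c2fff7c07878dda6ca3371584f70582c13c07c74cfff73a6f282e46622264907ba114a1824a5fae2fff5e9b2191c9f162dbc66d361c75107b691787fff20e07a148a014a115152b9e221220c27e5aafff9ed8de86a668a752b7a9794982e07a0fd7f0fff6a750c526a04a029747c96170797b3824728fff5805478659529c714398450986b7d907989efff7e65d6872a9786f96ea159f07760797d9b53fff5482ce0788bc6aa17e92058b46d91c992860fff78e5dd5d6078a314448e27137ae69a66182efff3334b43c21aa3c3860a2c9ad0785ac6c1648fff2300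771993632bc89a5479098248a88a982afff30b71a2503fc95007798eae62c17fea37a01fff824a2f81e2678f59cb944077128aa47f48fffff7d085e7d4848a658e4077ada86086686a4f6fff7a962f6546557a365372e5e27ab077184834fff83472470491807673e74e85a7c77a55ac4f7fff73c0f673e3e56c06cb8220767b981eae0101fff64070486d7243ad7750765dc7f06da6426c1fff56482b4f956c1ec55e5675620765765ee570fff7d47867ec9717d69bc9f076086c84c7e8076fff3dd03c6e536762227b6680e37781470c05f5fff03c9c76944513d24a76224494726a60bb5acfff83b7ea03c71993b6949c49c80c2ae7b208d0fff27936629503c41a208a3027b3d70bbaa8650fff36637b0b90e22b203c28020c3070fd0b3408fff0e141bb53adf53a9ba66503ca728398e4619fff6280e053a3990b543303c4df4bf70b777691fff13a5fa0af692aa70bd61f8a448712e51503cfff1d003b0bc7780b73632b34f62652b90f653dfff03b0b80bb2963a920f4bea6512d0fc0fa53ffff3a63333c30df03b8de3245ac0bab5281e39dfff0de0dd0f903b0dc24a48c7784187b982c40cfff0f42650b88d090e6a20b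624f03badf2843d8fff62a5ac6280f53b332fa6b5830db03b0ae699fff74d1600da81e89630f24f0f117726526503bfff12803a1eb0f70ae1d25ac19115f0d90b0449fff03a7ac7b241a3dc4990b30d81996090d74b6fff0d62120ec39703a2c52c20ed0b30f90d5782fff50a0ea58103a3d12507ac2f60d40d30d2409fff1242500d12880d053a03a2f40cf6915d3450fff0ce82411e0e90b00cd0cc0cb03a0ee0ca6ecfff77761f0f60c97035ce0c80c70c603a0ac0c5fff08b08a0890ee0880870860850750f0000084fff0830820740810800731d207307f00007e07dfff07c07b15b07a0790ad0ad0780770e8076000fff00000000000000000000000000003c03b03a))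
noncomputable def tJ : Tr := (.leaf (nat_lit 0x14024348d54e84f48848a1c02900d07522d144b5152801db0040000c20001002c07091414c304440a5541c02800d07920104405132801df1845070ca14910f2c07c914f4d10404001d220000045f4850063c14d10c00ce10e44928064044524010b5cb4102401c418b04000f4003cf20d38585014024340d38e88f34840008020000c3401c10220c02801de1800000c20c600f08018000000118e31e0ce0c000e3c000d00e7c33c504000d38000c00d0057cd08014c0000011cc2df00024000b70b00000000000020000535c0050002803800c00ca00a00900b70334c28001a18800000a0c000818000030001a0002003c010010000000001a24000014010000530068000000a0800c024000818101a0001c00080c064b00000000810000700000a1990004841400030001036480002400c00801000001436420060000002c02400090002992800580042870002002002c06000001400070001c02400006002c00001c000b2000050181850051410001800002000180030001421000000001c00180000091400000031006000001870000001c50040001800182800591860c00c00001002c06421490031001400001c00040006400001003012000000190000000040030c00001070000846401800800000000060000190c00000000000000000070192800570000820020c00802c05c92800000400000051c00000c25c00000800002000010170000000000041400030010085c60002c00c00000800400005c00010800060002090000170400400000000000000405c0080000040001001017000000000000000000000017000596596596596580000))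
noncomputable def tQ : Tr := (.leaf (nat_lit 0x0))
noncomputable def tR : TC.WTr := (.node (.node (.node r0 r1) (.node r2 r3)) (.node (.node r4 r5) (.node r6 r7)))
def hl : List ℕ := [3, 4, 5, 5, 4, 6, 7, 8, 8, 7, 9, 10, 11, 11, 10]
def B : List (List ℕ) := [[0, 0], [1, 2], [2, 1], [3, 3], [4, 5], [5, 4], [6, 6], [7, 8], [8, 7], [9, 9], [10, 11], [11, 10], [10, 10, 10, 10, 10, 10], [9, 10, 9, 10, 9, 10, 9, 10, 9, 10, 9, 10], [9, 10, 9, 11], [9, 11, 9, 11, 9, 11, 9, 11, 9, 11, 9, 11], [7, 7, 7, 7, 7, 7], [6, 8, 6, 8, 6, 8, 9], [6, 7, 7, 6, 8, 11], [6, 7, 6, 7, 6, 7, 6, 7, 6, 7, 6, 7], [6, 7, 6, 8, 6, 7, 6, 8, 6, 7, 6, 8, 6, 7, 6, 8, 6, 7, 6, 8, 6, 7, 6, 8, 6, 7, 6, 8], [6, 8, 6, 8, 6, 8, 6, 8, 6, 8, 6, 8], [8, 9, 7, 6, 9, 6], [8, 10, 6, 11, 8, 11, 9], [7, 9, 8, 11, 8, 6, 11], [6, 7, 10, 8, 9, 6, 11, 9], [4, 4, 4, 4, 4, 4], [3, 5, 3, 4, 3, 6], [5, 5, 3, 4, 3, 4, 4,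 3, 5, 8], [3, 4, 3, 4, 3, 4, 3, 4, 3, 4, 3, 4, 3, 4, 3, 4], [3, 5, 3, 5, 3, 5, 3, 5, 3, 5, 3, 5, 3, 5, 3, 5], [3, 9, 3, 9], [3, 10, 3, 10, 9], [5, 6, 4, 10, 6, 8], [4, 4, 10, 4, 10, 10], [4, 6, 5, 10, 9, 8, 9, 6], [4, 8, 11, 4, 7, 10, 7, 7], [4, 10, 8, 5, 8, 6, 7, 6], [4, 3, 4, 8, 3, 7, 11, 11], [3, 6, 7, 3, 5, 10, 7, 9, 7], [1, 1, 1, 1], [1, 0, 2, 2, 0, 2, 3], [2, 2, 0, 1, 1, 0, 1, 0, 1, 5], [0, 1, 0, 2, 0, 1, 0, 2, 0, 1, 0, 2, 0, 1, 0, 2], [0, 5, 2, 3, 6, 9, 8, 4], [1, 9, 2, 10, 4, 3, 8, 3], [1, 6, 0, 7, 9, 6, 3, 7, 4], [2, 3, 1, 6, 11, 3, 10, 7, 4, 3], [0, 3, 7, 3, 0, 3, 7, 3], [0, 8, 3, 7, 0, 11, 6, 4, 4], [0, 9, 3, 0, 3, 7, 9, 3, 8, 3], [0, 8, 4, 11, 0, 10, 5, 7], [0, 11, 7, 1, 9, 7, 9, 7, 5], [0, 1, 5, 10, 0, 1, 5, 10], [0, 1, 5, 0, 4, 2, 0, 3], [1, 3, 11, 11, 2, 7, 10, 10, 6], [0, 11, 1, 3, 0, 3, 11, 6, 8], [2, 4, 7, 10, 0, 7, 10, 5, 5], [2, 0, 6, 0, 1, 11,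 11, 11, 9], [1, 8, 3, 7, 2, 10, 4, 9, 6], [2, 10, 1, 11, 2, 9, 5, 5, 5, 3], [1, 3, 5, 0, 2, 8, 8, 8, 3, 5], [2, 0, 9, 2, 0, 7, 6, 7, 10, 6], [2, 6, 2, 10, 1, 7, 6, 4, 3, 4], [1, 11, 7, 2, 2, 10, 4, 3, 8, 11], [0, 8, 2, 6, 1, 7, 4, 3, 10, 8], [1, 10, 1, 8, 1, 3, 8, 4, 10, 4]]
def subs : List (List ℕ) := [[3], [4], [5], [6], [7], [8], [9], [10], [11]]
def ex : List (List ℕ) := []
def inv (x : ℕ) : ℕ := [0, 2, 1, 3, 5, 4, 6, 8, 7, 9, 11, 10].getD x 0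
noncomputable def rS : ℕ → ℕ := rowOf tS (nat_lit 7) (nat_lit 127) (nat_lit 156) (nat_lit 91343852333181432387730302044767688728495783935)
noncomputable def rJ : ℕ → ℕ := rowOf tJ (nat_lit 7) (nat_lit 127) (nat_lit 84) (nat_lit 19342813113834066795298815)
noncomputable def C : TC.Cfg where
  S := look rS (nat_lit 12) (nat_lit 4095)
  J := look rJ (nat_lit 6) (nat_lit 63)
  Q := lookQ tQ (nat_lit 7) (nat_lit 1) (nat_lit 1)
  R := tR.get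
  hl := fun x => hl.contains x
  n := (nat_lit 57)
  M := (nat_lit 57)
  top := (nat_lit 3078)
  nl := (nat_lit 12)
  need := (nat_lit 12)
  nr := (nat_lit 22)
theorem k0 : TC.chkRange C 0 1 = true := by decide +kernel
theorem rows0 : ∀ c < (0 + 1) * 64, c < C.M → TC.chkRow C c = true :=
  TC.rows_step (TC.rows_zero C) k0
theorem main {G : Type*} [Group G] (g : ℕ → G) (hB : ∀ r ∈ B, ev g r = 1) (H : Subgroup G)
    (hH : ∀ w ∈ subs, ev g w ∈ H) :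
    H.relIndex (Subgroup.closure (g '' {x | x < 12})) ≠ 0 ∧
      H.relIndex (Subgroup.closure (g '' {x | x < 12})) ≤ 57 :=
  TC.index_le C B subs ex inv hl tR.hint rfl (by decide +kernel) (by decide +kernel)
    (TC.rows_done rows0 (by decide +kernel)) g hB H hH
end H0.TCL370
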